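import Groth.Agent.TransRep27.Basic
import Groth.Agent.RedSub.Basic
import Groth.Agent.FBase.BC

/-!
# Reduced closure of the image of a homomorphism over a perfect field

Over a perfect field the closure of the image of a homomorphism of group schemes, with its reduced
structure, is a closed subgroup scheme.
-/

set_option autoImplicit false
universe u

open CategoryTheory MonoidalCategory CartesianMonoidalCategory MonObj GrpObj AlgebraicGeometry
  Limits

namespace Groth.Agent.GrpClosure27

open Groth.Agent.GrpScheme

variable {K : Type u} [Field K]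

/-- The product of two dominant morphisms over a field is dominant. -/
lemma denseRange_tensor {A B C D : Over (Spec (CommRingCat.of K))} (f : A ⟶ B) (g : C ⟶ D)
    (hf : DenseRange f.left) (hg : DenseRange g.left) : DenseRange (f ⊗ₘ g).left := by
  have key : ∀ {P X Y Q : Scheme.{u}} {p : P ⟶ X} {q : P ⟶ Q} {a : X ⟶ Y} {b : Q ⟶ Y},
      IsPullback p q a b → UniversallyOpen b → DenseRange a → DenseRange q := by
    intro P X Y Q p q a b h _ ha
    refine dense_iff_inter_open.2 fun U hU ⟨z, hz⟩ => ?_
    obtain ⟨x, w, hw, hwx⟩ := ha.exists_mem_open (b.isOpenMap U hU) ⟨_, ⟨z, hz, rfl⟩⟩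
    obtain ⟨t, -, ht⟩ := Scheme.exists_preimage_of_isPullback h x w hwx.symm
    exact ⟨q t, by rw [ht]; exact hw, t, rfl⟩
  have huo : ∀ (R M : Over (Spec (CommRingCat.of K))), UniversallyOpen (snd R M).left := fun R M =>
    Basic.snd_left_mem @UniversallyOpen inferInstance
  have huo' : ∀ (R M : Over (Spec (CommRingCat.of K))), UniversallyOpen (fst R M).left := fun R M =>
    MorphismProperty.pullback_fst (P := @UniversallyOpen) R.hom M.hom inferInstance
  rw [MonoidalCategory.tensorHom_def, Over.comp_left]
  have h1 : DenseRange (f ▷ C).left :=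
    key ((Basic.isPullback_whiskerRight (R := C) f).map (Over.forget _)).flip (huo' B C) hf
  have h2 : DenseRange (B ◁ g).left :=
    key ((Basic.isPullback_whiskerLeft (R := B) g).map (Over.forget _)).flip (huo B D) hg
  rw [Scheme.Hom.comp_base, TopCat.coe_comp]
  exact h2.comp h1 (B ◁ g).left.continuous

/-- Reduced closure of the image of a homomorphism, over a perfect field. -/
theorem exists_closure [PerfectField K] {G H : Over (Spec (CommRingCat.of K))} [GrpObj G] [GrpObj H]
    (u : G ⟶ H) [IsMonHom u] :
    ∃ (C : Over (Spec (CommRingCat.of K))) (_ : GrpObj C) (c : C ⟶ H), IsMonHom c ∧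
      IsClosedImmersion c.left ∧ AlgebraicGeometry.IsReduced C.left ∧
      Set.range c.left = closure (Set.range u.left) := by
  let Z : TopologicalSpace.Closeds H.left := ⟨closure (Set.range u.left), isClosed_closure⟩
  let I := Scheme.IdealSheafData.vanishingIdeal Z
  let C : Over (Spec (CommRingCat.of K)) := Over.mk (I.subschemeι ≫ H.hom)
  let c : C ⟶ H := Over.homMk I.subschemeι rfl
  have hr : Set.range c.left = closure (Set.range u.left) :=
    RedSub.range_vanishingIdeal_subschemeι Z
  have hred : AlgebraicGeometry.IsReduced C.left := RedSub.isReduced_vanishingIdeal Z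
  have : IsClosedImmersion c.left := inferInstanceAs (IsClosedImmersion I.subschemeι)
  have := TransRep27.mono_of_mono_left c
  have hfac : ∀ {T : Over (Spec (CommRingCat.of K))} [AlgebraicGeometry.IsReduced T.left] (x : T ⟶ H),
      Set.range x.left ⊆ closure (Set.range u.left) → ∃ z : T ⟶ C, z ≫ c = x := by
    intro T _ x hx
    obtain ⟨z, hz⟩ := RedSub.exists_lift_closed c.left x.left (hr ▸ hx)
    exact ⟨Over.homMk z (by rw [← Over.w c, reassoc_of% hz, Over.w x]),
      Over.OverMorphism.ext hz⟩
  have hgr : GeometricallyReduced C.hom := FBase.BC.geometricallyReduced_of_isReduced_of_perfectField C.hom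
  have hred2 : AlgebraicGeometry.IsReduced (C ⊗ C).left := FBase.BC.isReduced_pullback C.hom C.hom
  let u' : G ⟶ H := u
  have hmem : ∀ {T : Over (Spec (CommRingCat.of K))} (x : T ⟶ G),
      Set.range (x ≫ u').left ⊆ Set.range u.left := fun x => by
    rw [Over.comp_left, Scheme.Hom.comp_base, TopCat.coe_comp]
    exact Set.range_comp_subset_range _ _
  obtain ⟨gC, hc⟩ : ∃ _ : GrpObj C, IsMonHom c := by
    refine SubgroupObj.exists_grpObj c ?_ ?_ ?_
    · refine hfac _ ?_
      -- closure of the image of `u ⊗ u`
      have hd : Set.range (c ⊗ₘ c).left ⊆ closure (Set.range (u ⊗ₘ u).left) := by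
        let J := Scheme.IdealSheafData.vanishingIdeal (⊤ : TopologicalSpace.Closeds G.left)
        let R : Over (Spec (CommRingCat.of K)) := Over.mk (J.subschemeι ≫ G.hom)
        let r : R ⟶ G := Over.homMk J.subschemeι rfl
        have : AlgebraicGeometry.IsReduced R.left := RedSub.isReduced_vanishingIdeal _
        have hrs : Set.range r.left = Set.univ := RedSub.range_vanishingIdeal_subschemeι _
        obtain ⟨v, hv⟩ := hfac (r ≫ u) ((hmem r).trans subset_closure)
        have hvd : DenseRange v.left := by
          intro x
          rw [c.left.isClosedEmbedding.isEmbedding.closure_eq_preimage_closure_image, Set.mem_preimage,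
            ← Set.range_comp, ← TopCat.coe_comp, ← Scheme.Hom.comp_base, ← Over.comp_left, hv,
            Over.comp_left, Scheme.Hom.comp_base, TopCat.coe_comp, Set.range_comp, hrs, Set.image_univ]
          exact hr ▸ Set.mem_range_self x
        have hvv := denseRange_tensor v v hvd hvd
        rw [← Set.image_univ, ← hvv.closure_range]
        refine (image_closure_subset_closure_image (c ⊗ₘ c).left.continuous).trans (closure_mono ?_)
        rw [← Set.range_comp, ← TopCat.coe_comp, ← Scheme.Hom.comp_base, ← Over.comp_left,
          MonoidalCategory.tensorHom_comp_tensorHom, hv, ← MonoidalCategory.tensorHom_comp_tensorHom,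
          Over.comp_left, Scheme.Hom.comp_base, TopCat.coe_comp]
        exact Set.range_comp_subset_range _ _
      rw [Over.comp_left, Scheme.Hom.comp_base, TopCat.coe_comp, Set.range_comp]
      refine (Set.image_mono hd).trans ((image_closure_subset_closure_image μ[H].left.continuous).trans
        (closure_mono ?_))
      rw [← Set.range_comp, ← TopCat.coe_comp, ← Scheme.Hom.comp_base, ← Over.comp_left,
        ← IsMonHom.mul_hom u]
      exact hmem _
    · have : AlgebraicGeometry.IsReduced (𝟙_ (Over (Spec (CommRingCat.of K)))).left :=
        inferInstanceAs (AlgebraicGeometry.IsReduced (Spec (CommRingCat.of K)))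
      refine hfac _ (Set.Subset.trans ?_ subset_closure)
      rw [← IsMonHom.one_hom u]
      exact hmem _
    · refine hfac _ ?_
      rw [Over.comp_left, Scheme.Hom.comp_base, TopCat.coe_comp, Set.range_comp, hr]
      refine (image_closure_subset_closure_image ι[H].left.continuous).trans (closure_mono ?_)
      rw [← Set.range_comp, ← TopCat.coe_comp, ← Scheme.Hom.comp_base, ← Over.comp_left,
        ← GrpObj.inv_hom u]
      exact hmem _
  exact ⟨C, gC, c, hc, inferInstance, hred, hr⟩

end Groth.Agent.GrpClosure27
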